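import Mathlib

/-!
# NO-3S, `TwoOne` / `CompP`, `k ≥ 2`, `D_x = I`: section 5 of bb OMEGA #19417 (helper409), pure form

`H` acts on the elementary abelian 2-group `M`; `L` = the line vectors, `A l`, `I l`, `al l` (`l ∈ L`) the data of
the line `l`.  `Dat` = the fields.  No plane axiom, no irreducibility, no counting is used.

* `Dat.ns` : an S-pair `(l, m)` with `[m, A_l] ≰ E_m` has `al m l • l ≠ l`;
* `Dat.q_zero` (5.3), (5.4) : `q_l = 0` for all `l` : `al l x • x + x ∈ {0, l}`;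
* `Dat.part` (5.2) : with `SIGMA_k` every S-pair is partial (the field `part` of `PE.Dat`).
-/

set_option autoImplicit false

namespace Cfsg.Agent.Omega.NO3S.TwoOne.PG

/-- the fields -/
structure Dat {M H : Type*} [AddCommGroup M] [Group H] [DistribMulAction H M] (L : Set M) (A : M → Subgroup H)
    (I : M → AddSubgroup M) (al : M → M → H) : Prop where
  two : ∀ m : M, m + m = 0
  zero : (0 : M) ∉ L
  gen : AddSubgroup.closure L = ⊤
  smul : ∀ (h : H) {l : M}, l ∈ L → h • l ∈ L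
  trans : ∀ {l m : M}, l ∈ L → m ∈ L → ∃ h : H, h • l = m
  A_conj : ∀ (h : H) {l : M} {a : H}, l ∈ L → a ∈ A l → h * a * h⁻¹ ∈ A (h • l)
  I_conj : ∀ (h : H) {l u : M}, l ∈ L → u ∈ I l → h • u ∈ I (h • l)
  sq : ∀ {l : M} {a : H}, l ∈ L → a ∈ A l → a * a = 1
  four : ∀ {l : M}, l ∈ L → 4 ≤ Nat.card (A l)
  self : ∀ {l : M}, l ∈ L → l ∈ I l
  comm : ∀ {l : M} {a : H}, l ∈ L → a ∈ A l → ∀ m : M, a • m + m ∈ I l
  fix : ∀ {l : M} {a : H} {u : M}, l ∈ L → a ∈ A l → u ∈ I l → a • u = u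
  al_mem : ∀ {l : M}, l ∈ L → ∀ m, al l m ∈ A l
  al_add : ∀ {l : M}, l ∈ L → ∀ m m', al l (m + m') = al l m * al l m'
  al_surj : ∀ {l : M} {a : H}, l ∈ L → a ∈ A l → ∃ m, al l m = a
  al_conj : ∀ (h : H) {l : M}, l ∈ L → ∀ m, al (h • l) (h • m) = h * al l m * h⁻¹
  al_ker : ∀ {l : M}, l ∈ L → ∀ m, al l m = 1 ↔ ∀ a ∈ A l, a • m = m ∨ a • m = m + l
  sy : ∀ {l : M}, l ∈ L → ∀ m m', al l m' • m + m + (al l m • m' + m') = 0 ∨
    al l m' • m + m + (al l m • m' + m') = l
  phi : ∀ {l : M} {a : H}, l ∈ L → a ∈ A l → a ≠ 1 → ∃ e, al l e = 1 ∧ a • e = e + l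
  five : ∀ {l m : M}, l ∈ L → m ∈ L → al m l ≠ 1 → al l m ≠ 1
  s1 : ∀ {l m : M}, l ∈ L → m ∈ L → al l m ≠ 1 → al m l ≠ 1 → ∀ e, al l e = 1 → al l m • e = e →
    ∃ j ∈ I m, al l j = 1 ∧ ∀ b ∈ A l, b • j + j = b • e + e
  s3 : ∀ {l m : M}, l ∈ L → m ∈ L → al l m ≠ 1 → al m l ≠ 1 → (∃ a ∈ A l, al m (a • m + m) ≠ 1) →
    ∃ j ∈ I m, al l j = 1 ∧ al l m • j = j + l
  alpha : ∀ {l m u : M}, l ∈ L → m ∈ L → al l m ≠ 1 → al m l ≠ 1 → u ∈ I l → u ∈ I m → u ≠ 0 → al l m • m = m
  kappa : ∀ {l m x : M}, l ∈ L → m ∈ L → al l m ≠ 1 → al m l ≠ 1 → al l x • x + x ≠ 0 → al l x • x + x ≠ l →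
    al m (al l x • m + m + l) ≠ 1 → ∃ u, u ≠ 0 ∧ u ∈ I l ∧ u ∈ I m

/-- `q_l(x) = 0` -/
def Z {M H : Type*} [AddCommGroup M] [Group H] [DistribMulAction H M] (al : M → M → H) (l x : M) : Prop :=
  al l x • x + x = 0 ∨ al l x • x + x = l

namespace Dat

variable {M H : Type*} [AddCommGroup M] [Group H] [DistribMulAction H M] {L : Set M} {A : M → Subgroup H}
    {I : M → AddSubgroup M} {al : M → M → H} (G : Dat L A I al)
include G

theorem two_left (x y : M) : x + (x + y) = y := by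
  rw [← add_assoc, G.two, zero_add]

theorem mid (e l : M) : e + l + e = l := by
  rw [add_comm e l, add_assoc, G.two, add_zero]

theorem inv {l : M} {a : H} (hl : l ∈ L) (ha : a ∈ A l) : a⁻¹ = a :=
  inv_eq_of_mul_eq_one_left (G.sq hl ha)

theorem A_comm {l : M} {a b : H} (hl : l ∈ L) (ha : a ∈ A l) (hb : b ∈ A l) : a * b = b * a := by
  have h := G.sq hl (mul_mem ha hb)
  calc a * b = (a * b)⁻¹ := (inv_eq_of_mul_eq_one_left h).symm
    _ = b * a := by rw [mul_inv_rev, G.inv hl ha, G.inv hl hb]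

theorem A_fix {l : M} {a : H} (hl : l ∈ L) (ha : a ∈ A l) : a • l = l := G.fix hl ha (G.self hl)

theorem al_I_one {l u : M} (hl : l ∈ L) (hu : u ∈ I l) : al l u = 1 :=
  (G.al_ker hl u).2 fun _ ha => Or.inl (G.fix hl ha hu)

theorem al_self {l : M} (hl : l ∈ L) : al l l = 1 := G.al_I_one hl (G.self hl)

theorem ne_zero {l : M} (hl : l ∈ L) : l ≠ 0 := fun e => G.zero (e ▸ hl)

theorem al_zero {l : M} (hl : l ∈ L) : al l 0 = 1 := G.al_I_one hl (zero_mem _)

/-- `[x, a b] = [x, a] + [x, b]` -/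
theorem mul_add' {l : M} {a b : H} (hl : l ∈ L) (ha : a ∈ A l) (hb : b ∈ A l) (x : M) :
    (a * b) • x + x = (a • x + x) + (b • x + x) := by
  have h1 := G.fix hl ha (G.comm hl hb x)
  rw [smul_add] at h1
  rw [mul_smul]
  calc a • b • x + x = (a • b • x + a • x) + (a • x + x) := by
        simp only [add_assoc, G.two_left]
    _ = (a • x + x) + (b • x + x) := by rw [h1]; simp only [add_comm, add_left_comm]

/-- `q_l` is additive modulo `l` -/
theorem q_add {l : M} (hl : l ∈ L) (x y : M) :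
    al l (x + y) • (x + y) + (x + y) = (al l x • x + x) + (al l y • y + y) ∨
      al l (x + y) • (x + y) + (x + y) = (al l x • x + x) + (al l y • y + y) + l := by
  have h1 : al l (x + y) • (x + y) + (x + y) =
      (al l x • x + x) + (al l y • y + y) + (al l y • x + x + (al l x • y + y)) := by
    have e1 := G.mul_add' hl (G.al_mem hl x) (G.al_mem hl y) (x + y)
    rw [G.al_add hl, e1, smul_add, smul_add]
    simp only [add_assoc, add_comm, add_left_comm]
  rw [h1]
  rcases G.sy hl x y with h | h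
  · left; rw [h, add_zero]
  · right; rw [h]

omit G in
theorem Z_zero {l : M} : Z al l 0 := Or.inl (by rw [smul_zero, add_zero])

theorem Z_of {l e : M} (h : al l e = 1) : Z al l e := Or.inl (by rw [h, one_smul, G.two])

theorem Z_add {l x y : M} (hl : l ∈ L) (hx : Z al l x) (hy : Z al l y) : Z al l (x + y) := by
  rcases G.q_add hl x y with h | h <;> rcases hx with h1 | h1 <;> rcases hy with h2 | h2 <;>
    rw [h1, h2] at h <;> simp only [Z, h, G.two, add_zero, zero_add, true_or, or_true]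

theorem Z_left {l x y : M} (hl : l ∈ L) (hx : Z al l x) (hy : ¬ Z al l y) : ¬ Z al l (x + y) := fun h =>
  hy (by rw [← G.two_left x y]; exact G.Z_add hl hx h)

theorem Z_conj (g : H) {l x : M} (hl : l ∈ L) : Z al (g • l) (g • x) ↔ Z al l x := by
  have e : al (g • l) (g • x) • (g • x) + g • x = g • (al l x • x + x) := by
    rw [G.al_conj g hl, smul_add, smul_smul, smul_smul]
    congr 2
    group
  unfold Z
  rw [e]
  constructor
  · rintro (h | h)
    · left; exact (smul_eq_zero_iff_eq g).mp h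
    · right; exact smul_left_cancel g h
  · rintro (h | h)
    · left; rw [h, smul_zero]
    · right; rw [h]

/-- all functionals on `A_l` come from `I_m` -/
theorem all_fun {l m : M} (hl : l ∈ L) (hm : m ∈ L) (h1 : al l m ≠ 1) (h2 : al m l ≠ 1)
    (h3 : ∃ a ∈ A l, al m (a • m + m) ≠ 1) {e : M} (he : al l e = 1) :
    ∃ j ∈ I m, al l j = 1 ∧ ∀ b ∈ A l, b • j + j = b • e + e := by
  rcases (G.al_ker hl e).1 he _ (G.al_mem hl m) with h4 | h4
  · exact G.s1 hl hm h1 h2 e he h4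
  · obtain ⟨j₀, hj₀, hj₀1, hj₀m⟩ := G.s3 hl hm h1 h2 h3
    obtain ⟨j₁, hj₁, hj₁1, hj₁b⟩ := G.s1 hl hm h1 h2 (e + j₀) (by rw [G.al_add hl, he, hj₀1, one_mul]) (by
      rw [smul_add, h4, hj₀m]
      calc e + l + (j₀ + l) = e + j₀ + (l + l) := by simp only [add_assoc, add_comm, add_left_comm]
        _ = e + j₀ := by rw [G.two, add_zero])
    refine ⟨j₁ + j₀, add_mem hj₁ hj₀, by rw [G.al_add hl, hj₁1, hj₀1, one_mul], fun b hb => ?_⟩
    have h5 := hj₁b b hb
    rw [smul_add] at h5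
    calc b • (j₁ + j₀) + (j₁ + j₀) = (b • j₁ + j₁) + (b • j₀ + j₀) := by
          rw [smul_add]; simp only [add_assoc, add_comm, add_left_comm]
      _ = b • e + b • j₀ + (e + j₀) + (b • j₀ + j₀) := by rw [h5]
      _ = (b • e + e) + ((b • j₀ + j₀) + (b • j₀ + j₀)) := by abel
      _ = b • e + e := by rw [G.two, add_zero]

/-- if `[m, A_l] ≰ E_m` then `al m l` moves `l` -/
theorem ns {l m : M} (hl : l ∈ L) (hm : m ∈ L) (h1 : al l m ≠ 1) (h2 : al m l ≠ 1)
    (h3 : ∃ a ∈ A l, al m (a • m + m) ≠ 1) : al m l • l ≠ l := by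
  intro hn
  obtain ⟨n, hnd⟩ : ∃ n, n = al m l := ⟨_, rfl⟩
  rw [← hnd] at hn h2
  have hnA : n ∈ A m := hnd ▸ G.al_mem hm l
  have h2' : al m l ≠ 1 := hnd ▸ h2
  have key : ∀ b ∈ A l, n * b * n⁻¹ = b := by
    intro b hb
    have hb' : n * b * n⁻¹ ∈ A l := by
      have := G.A_conj n hl hb
      rwa [hn] at this
    by_contra hne
    have hc : (n * b * n⁻¹) * b ≠ 1 := fun h => hne
      ((inv_eq_of_mul_eq_one_left h).symm.trans (G.inv hl hb))
    obtain ⟨e, he, hce⟩ := G.phi hl (mul_mem hb' hb) hc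
    obtain ⟨j, hj, hj1, hjb⟩ := G.all_fun hl hm h1 h2' h3 he
    have h4 : (n * b * n⁻¹ * b) • j + j = l := by
      rw [hjb _ (mul_mem hb' hb), hce, G.mid]
    have hnj : n • j = j := G.fix hm hnA hj
    have hnj' : n⁻¹ • j = j := by rw [G.inv hm hnA]; exact hnj
    have hn' : n⁻¹ • l = l := by rw [G.inv hm hnA]; exact hn
    have e1 : (n * b * n⁻¹) • j = n • b • j := by rw [mul_smul, mul_smul, hnj']
    have h5 : (n * b * n⁻¹ * b) • j = j := by
      rcases (G.al_ker hl j).1 hj1 b hb with h6 | h6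
      · rw [mul_smul, h6, e1, h6, hnj]
      · rw [mul_smul, h6, smul_add, e1, h6, smul_add, hnj, hn, G.A_fix hl hb', add_assoc, G.two, add_zero]
    rw [h5, G.two] at h4
    exact G.ne_zero hl h4.symm
  obtain ⟨e, -, he⟩ := G.phi hm hnA h2
  have h4 := G.al_conj n hl e
  rw [hn, key _ (G.al_mem hl e), he, G.al_add hl] at h4
  exact h1 (mul_eq_left.mp h4)

section q

/-- `ψ(a) = al m (a • m + m)` is `al m l` on `{q_l ≠ 0}` -/
theorem psi {l m x : M} (hl : l ∈ L) (hm : m ∈ L) (h1 : al l m ≠ 1) (h2 : al m l ≠ 1)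
    (h3 : ∀ u, u ∈ I l → u ∈ I m → u = 0) (hx : ¬ Z al l x) : al m (al l x • m + m) = al m l := by
  by_contra hne
  obtain ⟨u, hu, hu1, hu2⟩ := G.kappa hl hm h1 h2 (fun e => hx (Or.inl e)) (fun e => hx (Or.inr e)) (by
    intro h
    rw [G.al_add hm] at h
    exact hne ((eq_inv_of_mul_eq_one_left h).trans (G.inv hm (G.al_mem hm l))))
  exact hu (h3 u hu1 hu2)

theorem psi_add {l m x y : M} (hl : l ∈ L) (hm : m ∈ L) :
    al m (al l (x + y) • m + m) = al m (al l x • m + m) * al m (al l y • m + m) := by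
  rw [G.al_add hl, G.mul_add' hl (G.al_mem hl x) (G.al_mem hl y), G.al_add hm]

variable (hex : ∃ l ∈ L, ∃ x, ¬ Z al l x)
include hex

theorem exists_nZ {l : M} (hl : l ∈ L) : ∃ m ∈ L, ¬ Z al l m := by
  obtain ⟨l₀, hl₀, x₀, hx₀⟩ := hex
  obtain ⟨g, rfl⟩ := G.trans hl₀ hl
  by_contra hcon
  push Not at hcon
  apply hx₀
  rw [← G.Z_conj g hl₀]
  have : ∀ v ∈ AddSubgroup.closure L, Z al (g • l₀) v := by
    intro v hv
    induction hv using AddSubgroup.closure_induction with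
    | mem v hv => exact hcon v hv
    | zero => exact Z_zero
    | add x y _ _ hx hy => exact G.Z_add hl hx hy
    | neg x _ hx =>
      have : -x = x := neg_eq_of_add_eq_zero_left (G.two x)
      rwa [this]
  exact this _ (by rw [G.gen]; trivial)

omit hex in
/-- the opposite pairs -/
theorem opp {l m : M} (hl : l ∈ L) (hm : m ∈ L) (h : ¬ Z al l m) :
    al l m ≠ 1 ∧ al m l ≠ 1 ∧ (∀ u, u ∈ I l → u ∈ I m → u = 0) := by
  have h1 : al l m ≠ 1 := fun e => h (G.Z_of e)
  have h2 : al m l ≠ 1 := G.five hm hl h1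
  refine ⟨h1, h2, fun u hu hu' => ?_⟩
  by_contra hu0
  exact h (Or.inl (by rw [G.alpha hl hm h1 h2 hu hu' hu0, G.two]))

theorem nZ_add {l x y : M} (hl : l ∈ L) (hx : ¬ Z al l x) (hy : ¬ Z al l y) : Z al l (x + y) := by
  by_contra hxy
  obtain ⟨m, hm, h⟩ := G.exists_nZ hex hl
  obtain ⟨h1, h2, h3⟩ := G.opp hl hm h
  have h4 := G.psi_add (x := x) (y := y) hl hm
  rw [G.psi hl hm h1 h2 h3 hxy, G.psi hl hm h1 h2 h3 hx, G.psi hl hm h1 h2 h3 hy, G.sq hm (G.al_mem hm l)] at h4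
  exact h2 h4

theorem Z_symm {l m : M} (hl : l ∈ L) (hm : m ∈ L) (h : ¬ Z al l m) : ¬ Z al m l := by
  intro hZ
  obtain ⟨h1, h2, h3⟩ := G.opp hl hm h
  have h4 : al m l • l ≠ l := G.ns hl hm h1 h2 ⟨_, G.al_mem hl m, by rw [G.psi hl hm h1 h2 h3 h]; exact h2⟩
  have h5 : al m l • l + l = m := hZ.resolve_left fun e => h4 (by
    calc al m l • l = (al m l • l + l) + l := by rw [add_assoc, G.two, add_zero]
      _ = l := by rw [e, zero_add])
  obtain ⟨x, -, hx⟩ := G.exists_nZ hex hm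
  have hx' : ¬ Z al m (l + x) := G.Z_left hm hZ hx
  have h3' : ∀ u, u ∈ I m → u ∈ I l → u = 0 := fun u hu hu' => h3 u hu' hu
  have h6 := G.psi_add (x := l) (y := x) hm hl
  rw [G.psi hm hl h2 h1 h3' hx', G.psi hm hl h2 h1 h3' hx, h5] at h6
  exact h1 (right_eq_mul.mp h6)

open Classical in
omit hex in
theorem F_exists (hex : ∃ l ∈ L, ∃ x, ¬ Z al l x) {l : M} (hl : l ∈ L) :
    ∃ f : M →+ ZMod 2, ∀ x, f x = if Z al l x then 0 else 1 := by
  refine ⟨AddMonoidHom.mk' (fun x => if Z al l x then 0 else 1) fun x y => ?_, fun x => rfl⟩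
  by_cases hx : Z al l x
  · by_cases hy : Z al l y
    · rw [if_pos hx, if_pos hy, if_pos (G.Z_add hl hx hy), add_zero]
    · rw [if_pos hx, if_neg hy, if_neg (G.Z_left hl hx hy), zero_add]
  · by_cases hy : Z al l y
    · rw [if_neg hx, if_pos hy, if_neg (by rw [add_comm]; exact G.Z_left hl hy hx), add_zero]
    · rw [if_neg hx, if_neg hy, if_pos (G.nZ_add hex hl hx hy)]
      decide

open Classical in
/-- the form: for every `e` there is `f_e` with `f_e m = F_m e` for `m ∈ L` -/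
theorem form (e : M) : ∃ f : M →+ ZMod 2, ∀ m ∈ L, f m = if Z al m e then 0 else 1 := by
  have : ∀ v ∈ AddSubgroup.closure L, ∃ f : M →+ ZMod 2, ∀ m ∈ L, f m = if Z al m v then 0 else 1 := by
    intro v hv
    induction hv using AddSubgroup.closure_induction with
    | mem v hv =>
      obtain ⟨f, hf⟩ := G.F_exists hex hv
      refine ⟨f, fun m hm => ?_⟩
      rw [hf]
      by_cases h : Z al v m
      · rw [if_pos h, if_pos]
        by_contra h'
        exact G.Z_symm hex hm hv h' h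
      · rw [if_neg h, if_neg (G.Z_symm hex hv hm h)]
    | zero => exact ⟨0, fun m hm => by rw [if_pos (Z_zero)]; rfl⟩
    | add x y _ _ hx hy =>
      obtain ⟨f, hf⟩ := hx
      obtain ⟨g, hg⟩ := hy
      refine ⟨f + g, fun m hm => ?_⟩
      obtain ⟨k, hk⟩ := G.F_exists hex hm
      rw [AddMonoidHom.add_apply, hf m hm, hg m hm, ← hk, ← hk, ← hk, map_add]
    | neg x _ hx =>
      have : -x = x := neg_eq_of_add_eq_zero_left (G.two x)
      rwa [this]
  exact this e (by rw [G.gen]; trivial)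

omit hex in
theorem hom_ext {f g : M →+ ZMod 2} (h : ∀ m ∈ L, f m = g m) : f = g := by
  ext x
  have : ∀ v ∈ AddSubgroup.closure L, f v = g v := by
    intro v hv
    induction hv using AddSubgroup.closure_induction with
    | mem v hv => exact h v hv
    | zero => rw [map_zero, map_zero]
    | add x y _ _ hx hy => rw [map_add, map_add, hx, hy]
    | neg x _ hx => rw [map_neg, map_neg, hx]
  exact this x (by rw [G.gen]; trivial)

open Classical in
/-- the form is invariant -/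
theorem form_inv {e : M} {f f' : M →+ ZMod 2} {g : H} (hg : g * g = 1)
    (hf : ∀ m ∈ L, f m = if Z al m e then 0 else 1)
    (hf' : ∀ m ∈ L, f' m = if Z al m (g • e + e) then 0 else 1) (x : M) : f (g • x + x) = f' x := by
  have h1 : f.comp (DistribSMul.toAddMonoidHom M g + AddMonoidHom.id M) = f' := by
    refine G.hom_ext fun m hm => ?_
    obtain ⟨k, hk⟩ := G.F_exists hex hm
    rw [hf' m hm, ← hk, map_add, hk, hk]
    change f (g • m + m) = _
    rw [map_add, hf m hm, hf _ (G.smul g hm)]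
    congr 1
    have e1 : Z al (g • m) e ↔ Z al m (g • e) := by
      have := G.Z_conj g (l := m) (x := g • e) hm
      rwa [smul_smul, hg, one_smul] at this
    simp only [e1]
  rw [← h1]
  rfl

/-- **(5.3), (5.4)** -/
theorem q_false [Finite H] : False := by
  classical
  obtain ⟨l, hl, -⟩ := id hex
  obtain ⟨x₁, -, hx₁⟩ := G.exists_nZ hex hl
  have ha1 : al l x₁ ≠ 1 := fun e => hx₁ (G.Z_of e)
  -- `y` with `q_l(y) = 0`, `al l y ≠ 1`
  obtain ⟨c, hc, hc1, hca⟩ : ∃ c ∈ A l, c ≠ 1 ∧ c ≠ al l x₁ := by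
    by_contra hcon
    push Not at hcon
    have h4 := G.four hl
    have : Nat.card (A l) ≤ 2 := by
      have hsub : ((A l : Subgroup H) : Set H) ⊆ {1, al l x₁} := fun b hb => by
        by_cases hb1 : b = 1
        · exact Or.inl hb1
        · exact Or.inr (hcon b hb hb1)
      calc Nat.card (A l) = Set.ncard ((A l : Subgroup H) : Set H) := Nat.card_coe_set_eq _
        _ ≤ Set.ncard ({1, al l x₁} : Set H) := Set.ncard_le_ncard hsub
        _ ≤ 2 := (Set.ncard_insert_le _ _).trans (by rw [Set.ncard_singleton])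
    omega
  obtain ⟨y, hy, hy1⟩ : ∃ y, Z al l y ∧ al l y ≠ 1 := by
    obtain ⟨y₀, rfl⟩ := G.al_surj hl hc
    by_cases hy₀ : Z al l y₀
    · exact ⟨y₀, hy₀, hc1⟩
    · refine ⟨y₀ + x₁, G.nZ_add hex hl hy₀ hx₁, fun h => hca ?_⟩
      rw [G.al_add hl] at h
      exact (eq_inv_of_mul_eq_one_left h).trans (G.inv hl (G.al_mem hl x₁))
  obtain ⟨e, he, hbe⟩ := G.phi hl (G.al_mem hl y) hy1
  obtain ⟨f, hf⟩ := G.form hex e
  obtain ⟨F, hF⟩ := G.F_exists hex hl
  -- `F` represents `l`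
  have hFl : ∀ m ∈ L, F m = if Z al m l then 0 else 1 := by
    intro m hm
    rw [hF]
    by_cases h : Z al l m
    · rw [if_pos h, if_pos]
      by_contra h'
      exact G.Z_symm hex hm hl h' h
    · rw [if_neg h, if_neg (G.Z_symm hex hl hm h)]
  have h1 : f (al l y • x₁ + x₁) = F x₁ := by
    refine G.form_inv hex (G.sq hl (G.al_mem hl y)) hf ?_ x₁
    have e1 : al l y • e + e = l := by rw [hbe, G.mid]
    rw [e1]
    exact hFl
  have h2 : f (al l x₁ • y + y) = 0 := by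
    rcases (G.al_ker hl e).1 he _ (G.al_mem hl x₁) with h | h
    · refine G.form_inv hex (f' := 0) (G.sq hl (G.al_mem hl x₁)) hf ?_ y
      intro m hm
      rw [h, G.two, if_pos (Z_zero)]
      rfl
    · have h3 := G.form_inv hex (f' := F) (G.sq hl (G.al_mem hl x₁)) hf (by
        have e1 : al l x₁ • e + e = l := by rw [h, G.mid]
        rw [e1]
        exact hFl) y
      rw [h3, hF, if_pos hy]
  have h3 : f l = 0 := by rw [hf l hl, if_pos (G.Z_of he)]
  have h4 : F x₁ = 1 := by rw [hF, if_neg hx₁]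
  have h5 : f (al l y • x₁ + x₁ + (al l x₁ • y + y)) = 0 := by
    rcases G.sy hl x₁ y with h | h
    · rw [h, map_zero]
    · rw [h, h3]
  rw [map_add, h1, h2, h4, add_zero] at h5
  exact one_ne_zero h5

end q

/-- `q_l = 0` for every `l` -/
theorem q_zero [Finite H] {l : M} (hl : l ∈ L) (x : M) : al l x • x + x = 0 ∨ al l x • x + x = l := by
  by_contra hcon
  exact G.q_false ⟨l, hl, x, hcon⟩

/-- **(5.2)** : with `SIGMA_k` every S-pair is partial -/
theorem part [Finite H]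
    (sigma : ∀ {l : M} {a o : H}, l ∈ L → a ∈ A l → a ≠ 1 → o ≠ 1 → Odd (orderOf o) → a * o * a⁻¹ = o⁻¹ →
      al l (o • l) = 1)
    {l m : M} (hl : l ∈ L) (hm : m ∈ L) (h1 : al l m ≠ 1) (h2 : al m l ≠ 1) :
    al l m • m = m ∧ ∀ a ∈ A l, al m (a • m + m) = 1 := by
  -- `al l m • m = m` is enough
  have red : al l m • m = m → ∀ a ∈ A l, al m (a • m + m) = 1 := by
    intro hn
    by_contra hcon
    push Not at hcon
    obtain ⟨j, hj, hj1, hjl⟩ := G.s3 hl hm h1 h2 hcon
    have h3 : al l m • j ∈ I m := by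
      have := G.I_conj (al l m) hm hj
      rwa [hn] at this
    rw [hjl] at h3
    have h4 : l ∈ I m := by
      have := add_mem hj h3
      rwa [G.two_left] at this
    exact h2 (G.al_I_one hm h4)
  by_cases hn : al l m • m = m
  · exact ⟨hn, red hn⟩
  exfalso
  -- `al l m • m = m + l`
  have h3 : al l m • m = m + l := by
    rcases G.q_zero hl m with h | h
    · exact absurd (by
        calc al l m • m = (al l m • m + m) + m := by rw [add_assoc, G.two, add_zero]
          _ = m := by rw [h, zero_add]) hn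
    · calc al l m • m = (al l m • m + m) + m := by rw [add_assoc, G.two, add_zero]
        _ = m + l := by rw [h, add_comm]
  have h4 : al m l • l ≠ l := G.ns hl hm h1 h2 ⟨_, G.al_mem hl m, by
    have : al l m • m + m = l := by rw [h3, G.mid]
    rw [this]; exact h2⟩
  have h5 : al m l • l = l + m := by
    rcases G.q_zero hm l with h | h
    · exact absurd (by
        calc al m l • l = (al m l • l + l) + l := by rw [add_assoc, G.two, add_zero]
          _ = l := by rw [h, zero_add]) h4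
    · calc al m l • l = (al m l • l + l) + l := by rw [add_assoc, G.two, add_zero]
        _ = l + m := by rw [h, add_comm]
  obtain ⟨n, hnd⟩ : ∃ n, n = al l m := ⟨_, rfl⟩
  obtain ⟨n', hnd'⟩ : ∃ n', n' = al m l := ⟨_, rfl⟩
  have hnA : n ∈ A l := hnd ▸ G.al_mem hl m
  have hnA' : n' ∈ A m := hnd' ▸ G.al_mem hm l
  rw [← hnd] at h3
  rw [← hnd'] at h5
  have hnl : n • l = l := G.A_fix hl hnA
  have hnm : n' • m = m := G.A_fix hm hnA'
  obtain ⟨g, hg⟩ : ∃ g, g = n * n' := ⟨_, rfl⟩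
  have hgl : g • l = m := by
    rw [hg, mul_smul, h5, smul_add, hnl, h3]
    calc l + (m + l) = l + (l + m) := by rw [add_comm m l]
      _ = m := G.two_left _ _
  have hgm : g • m = l + m := by rw [hg, mul_smul, hnm, h3, add_comm]
  have hng : n * g * n⁻¹ = g⁻¹ := by
    rw [hg]
    calc n * (n * n') * n⁻¹ = (n * n) * n' * n⁻¹ := by group
      _ = n'⁻¹ * n⁻¹ := by rw [G.sq hl hnA, one_mul, G.inv hm hnA']
      _ = (n * n')⁻¹ := by group
  -- the powers `g ^ (2 ^ s)` act as `g` or `g²`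
  have hpow : ∀ s : ℕ, (g ^ 2 ^ s • l = m ∧ g ^ 2 ^ s • m = l + m) ∨
      (g ^ 2 ^ s • l = l + m ∧ g ^ 2 ^ s • m = l) := by
    intro s
    induction s with
    | zero => left; rw [pow_zero, pow_one]; exact ⟨hgl, hgm⟩
    | succ s ih =>
      have e1 : g ^ 2 ^ (s + 1) = g ^ 2 ^ s * g ^ 2 ^ s := by rw [← pow_add]; congr 1; ring
      rcases ih with ⟨i1, i2⟩ | ⟨i1, i2⟩
      · right
        rw [e1, mul_smul, mul_smul, i1, i2, smul_add, i1, i2]
        refine ⟨rfl, ?_⟩
        calc m + (l + m) = m + (m + l) := by rw [add_comm l m]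
          _ = l := G.two_left _ _
      · left
        rw [e1, mul_smul, mul_smul, i1, i2, smul_add, i1, i2]
        refine ⟨?_, rfl⟩
        calc l + m + l = l + (l + m) := by rw [add_comm]
          _ = m := G.two_left _ _
  obtain ⟨s, t, ht, hst⟩ := Nat.exists_eq_two_pow_mul_odd (orderOf_pos g).ne'
  have ho : orderOf (g ^ 2 ^ s) = t := by
    have hs : 2 ^ s ∣ orderOf g := ⟨t, hst⟩
    rw [orderOf_pow_of_dvd (by positivity) hs, hst, Nat.mul_div_cancel_left _ (by positivity)]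
  have hone : g ^ 2 ^ s • l ≠ l := by
    rcases hpow s with ⟨i1, -⟩ | ⟨i1, -⟩
    · rw [i1]; intro e
      apply h1
      rw [e]; exact G.al_self hl
    · rw [i1]; intro e
      exact G.ne_zero hm (by simpa using e)
  have hσ := sigma hl hnA (hnd ▸ h1) (o := g ^ 2 ^ s) (fun e => hone (by rw [e, one_smul])) (by rw [ho]; exact ht)
    (by rw [← conj_pow, hng, inv_pow])
  rcases hpow s with ⟨i1, -⟩ | ⟨i1, -⟩
  · rw [i1] at hσ; exact h1 hσ
  · rw [i1, G.al_add hl, G.al_self hl, one_mul] at hσ; exact h1 hσ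

end Dat

end Cfsg.Agent.Omega.NO3S.TwoOne.PG
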