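import Cfsg.Agent.Omega.NO3S.TwoOne.PG.Main
import Cfsg.Agent.Omega.NO3S.TwoOne.PE.Glue

/-!
# NO-3S, `TwoOne` / `CompP`, no `λ`-transvections, `|A| ≥ 4`, `D_x = I` (helper409's #19417, section 5): glue, pure form

over helper885's structure `PP.Gen`: `PP.Gen.toPG`, `PP.Gen.five_part`, `PP.Gen.five_false`.
-/

set_option autoImplicit false

namespace Cfsg.Agent.Omega.NO3S.TwoOne.PP.Gen

open Cfsg.Agent.Omega.NO3S.TwoOne

variable {M H : Type*} [AddCommGroup M] [Group H] [DistribMulAction H M] {L : Set M} {A : M → Subgroup H}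
    {I : M → AddSubgroup M} {al : M → M → H} (G : Gen L A I al)
include G

theorem toPG (five : ∀ {l m : M}, l ∈ L → m ∈ L → al m l ≠ 1 → al l m ≠ 1) : PG.Dat L A I al where
  two := G.two
  zero := G.zero
  gen := G.gen
  smul := G.smul
  trans := G.trans
  A_conj := G.A_conj
  I_conj := G.I_conj
  sq := G.sq
  four := G.four
  self := G.self
  comm := G.comm
  fix := G.fix
  al_mem := G.al_mem
  al_add := G.al_add
  al_surj := G.al_surj
  al_conj := G.al_smul
  al_ker := G.al_ker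
  sy := G.sy
  phi := G.phi
  five := five
  s1 := G.s1
  s3 := fun hl hm h h' h3 => by
    obtain ⟨a, ha, hna⟩ := h3
    exact G.toSK.s3 hl hm h h' ha hna
  alpha := fun hl hm h h' hu hu' hu0 => G.alpha hl hm h h' _ hu hu' hu0
  kappa := fun {l m x} hl hm h h' h1 h2 h3 => by
    obtain ⟨u, hu, hu', hu0⟩ := G.kappa hl hm h h' x (fun e => h1 (by rw [e, G.two]))
      (fun e => h2 (by rw [e, add_comm x l, add_assoc, G.two, add_zero])) h3
    exact ⟨u, hu0, hu, hu'⟩

/-- **(5.2) - (5.4)** : every S-pair is partial -/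
theorem five_part [Finite H] (five : ∀ {l m : M}, l ∈ L → m ∈ L → al m l ≠ 1 → al l m ≠ 1) {l m : M} (hl : l ∈ L)
    (hm : m ∈ L) (h : al l m ≠ 1) (h' : al m l ≠ 1) : al l m • m = m ∧ ∀ a ∈ A l, al m (a • m + m) = 1 :=
  (G.toPG five).part (fun hl ha ha1 ho hodd hinv => (G.sgm hl ha ha1 ho hodd hinv).2.2) hl hm h h'

/-- **#19417, section 5** (`D_x = I`) -/
theorem five_false [Finite H] (five : ∀ {l m : M}, l ∈ L → m ∈ L → al m l ≠ 1 → al l m ≠ 1) {l : M} (hl : l ∈ L) :
    False := by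
  obtain ⟨m, hm, h⟩ := G.exists_far hl
  exact G.false_of_part (fun hl hm h h' => G.five_part five hl hm h h') hl hm h (five hm hl h)

end Cfsg.Agent.Omega.NO3S.TwoOne.PP.Gen
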